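import Cfsg.Agent.MonsterU.Lam2
import Cfsg.Agent.Prune
set_option linter.all false
prune_inst 0x7f00000000000000000000000000000000000000000000000000000000000000000000000000000000000000000000000000000000000000000000000000000000000000000000000000000000000000003fffffffffffffffffffffffffffbeffbdffffffff
open scoped Cfsg.Agent.FastGrp

/-!
# Duality in the lattice modulo two
-/

set_option autoImplicit false

namespace Cfsg.Agent.H848.Dual

open Cfsg Cfsg.Spor Cfsg.Agent.MonsterU.Lam2

/-- the commutator form as a bilinear form -/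
noncomputable def B : LinearMap.BilinForm (ZMod 2) L2 :=
  AddMonoidHom.toZModLinearMap 2
    { toFun := fun x => AddMonoidHom.toZModLinearMap 2
        { toFun := fun y => bf x y
          map_zero' := bf_zero_right x
          map_add' := bf_add_right x }
      map_zero' := by
        ext y
        exact bf_zero_left y
      map_add' := by
        intro x x'
        ext y
        exact bf_add_left x x' y }

theorem B_apply (x y : L2) : B x y = bf x y := rfl

theorem B_isRefl : B.IsRefl := by
  intro x y h
  rw [B_apply] at h ⊢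
  rw [bf_comm]; exact h

theorem B_nondeg : B.Nondegenerate := by
  refine ⟨?_, ?_⟩
  · intro x hx
    exact bf_nondeg hx
  · intro x hx
    exact bf_nondeg fun y => by rw [bf_comm]; exact hx y

instance module_finite : Module.Finite (ZMod 2) L2 := Module.Finite.of_finite

/-- the orthogonal space -/
def perp (U : AddSubgroup L2) : AddSubgroup L2 where
  carrier := {x | ∀ u ∈ U, bf x u = 0}
  zero_mem' := fun u _ => bf_zero_left u
  add_mem' := by
    intro a b ha hb u hu
    rw [bf_add_left, ha u hu, hb u hu, add_zero]
  neg_mem' := by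
    intro a ha u hu
    rw [neg_eq]; exact ha u hu

theorem mem_perp {U : AddSubgroup L2} {x : L2} : x ∈ perp U ↔ ∀ u ∈ U, bf x u = 0 := Iff.rfl

/-- a subgroup as a subspace -/
noncomputable def sub (U : AddSubgroup L2) : Submodule (ZMod 2) L2 := AddSubgroup.toZModSubmodule 2 U

theorem mem_sub {U : AddSubgroup L2} {x : L2} : x ∈ sub U ↔ x ∈ U := Iff.rfl

theorem orth_sub (U : AddSubgroup L2) : B.orthogonal (sub U) = sub (perp U) := by
  ext x
  rw [LinearMap.BilinForm.mem_orthogonal_iff, mem_sub, mem_perp]
  constructor
  · intro h u hu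
    rw [bf_comm]; exact h u hu
  · intro h u hu
    show B u x = 0
    rw [B_apply, bf_comm]
    exact h u hu

theorem card_sub (U : AddSubgroup L2) : Nat.card U = 2 ^ Module.finrank (ZMod 2) (sub U) := by
  have h : Nat.card (sub U) = Nat.card (ZMod 2) ^ Module.finrank (ZMod 2) (sub U) :=
    Module.natCard_eq_pow_finrank
  rw [Nat.card_zmod] at h
  exact h

theorem finrank_L2 : Module.finrank (ZMod 2) L2 = 24 := by
  have h : Nat.card L2 = Nat.card (ZMod 2) ^ Module.finrank (ZMod 2) L2 := Module.natCard_eq_pow_finrank
  rw [card_L2, Nat.card_zmod] at h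
  exact (Nat.pow_right_injective (le_refl 2) h).symm

theorem card_perp (U : AddSubgroup L2) : Nat.card (perp U) * Nat.card U = 2 ^ 24 := by
  have h1 := LinearMap.BilinForm.finrank_orthogonal B_nondeg (sub U)
  have h2 : Module.finrank (ZMod 2) (sub U) ≤ 24 := by
    rw [← finrank_L2]; exact Submodule.finrank_le _
  rw [orth_sub, finrank_L2] at h1
  rw [card_sub (perp U), card_sub U, h1, ← pow_add, Nat.sub_add_cancel h2]

theorem perp_perp (U : AddSubgroup L2) : perp (perp U) = U := by
  have h1 := LinearMap.BilinForm.orthogonal_orthogonal B_nondeg B_isRefl (sub U)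
  rw [orth_sub, orth_sub] at h1
  ext x
  rw [← mem_sub, h1, mem_sub]

theorem perp_anti {U U' : AddSubgroup L2} (h : U ≤ U') : perp U' ≤ perp U :=
  fun _ hx u hu => hx u (h hu)

/-- every functional on a subgroup is given by an element -/
theorem exists_bf (U : AddSubgroup L2) (f : U →+ ZMod 2) : ∃ w : L2, ∀ u : U, bf w u = f u := by
  obtain ⟨g, hg⟩ := (AddMonoidHom.toZModLinearMap 2 f : sub U →ₗ[ZMod 2] ZMod 2).exists_extend
  obtain ⟨w, hw⟩ := (LinearMap.BilinForm.toDual B B_nondeg).surjective g
  refine ⟨w, fun u => ?_⟩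
  have h1 : B w (u : L2) = g u := by
    rw [← hw]
    exact (LinearMap.BilinForm.toDual_def B_nondeg).symm
  rw [← B_apply, h1]
  exact congrArg (fun l : sub U →ₗ[ZMod 2] ZMod 2 => l u) hg

end Cfsg.Agent.H848.Dual
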