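import Cfsg.Agent.CTwoTab.MonsterOf
import Cfsg.Agent.CpAut.TwoTool
import Cfsg.Agent.H850.MonSub
import Cfsg.Agent.MonsterN.LitFin
import Cfsg.Agent.KFacts.MonsterE
import Cfsg.Agent.H383.Cube.DC_m3
import Cfsg.Agent.FastGrp
import Cfsg.Agent.Prune
set_option linter.all false
prune_inst 0x7f00000000000000000000000000000000000000000000000000000000000000000000000000000000000000000000000000000000000000000000000000000000000000000000000000000000000000003fffffffffffffffffffffffffffbeffbdffffffff
open scoped Cfsg.Agent.FastGrp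

/-!
# `|T| < |C_T(α)| ^ 3` for the Monster

`of_inner`: the criterion for groups all of whose automorphisms are inner; `cube_M`.
-/

set_option autoImplicit false

open Subgroup Cfsg Cfsg.Agent.H383.Cube

namespace Cfsg.Agent.H848.CubeM

section gen

variable {T : Type*} [Group T]

/-- **All automorphisms inner**: it is enough to look at the centralizers of the involutions. -/
theorem of_inner [Finite T] (hin : ∀ α : MulAut T, ∃ g, α = MulAut.conj g) (hc : center T = ⊥)
    (h : ∀ t : T, orderOf t = 2 → Nat.card T < Nat.card ↥(centralizer ({t} : Set T)) ^ 3) : CubeBound T := by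
  intro α hα
  obtain ⟨g, rfl⟩ := hin α
  have h1 : (MulAut.conj g : MulAut T) * MulAut.conj g = 1 := mul_self_of_order hα
  have h2 : g * g = 1 := by
    have h3 : g * g ∈ center T := by
      rw [mem_center_iff]
      intro x
      have h4 : g * (g * x * g⁻¹) * g⁻¹ = x := DFunLike.congr_fun h1 x
      calc x * (g * g) = g * (g * x * g⁻¹) * g⁻¹ * (g * g) := by rw [h4]
        _ = g * g * x := by group
    rwa [hc, mem_bot] at h3
  have h3 : g ≠ 1 := by
    rintro rfl
    rw [map_one, orderOf_one] at hα
    exact absurd hα (by norm_num)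
  have h4 : orderOf g = 2 := orderOf_eq_prime (by rw [pow_two, h2]) h3
  have h5 := h g h4
  have h6 : Nat.card ↥(centralizer ({g} : Set T)) = Nat.card {t : T // (MulAut.conj g : MulAut T) t = t} := by
    refine Nat.card_congr (Equiv.subtypeEquivRight fun x => ?_)
    rw [mem_centralizer_singleton_iff, MulAut.conj_apply, mul_inv_eq_iff_eq_mul]
    exact eq_comm
  rw [h6] at h5
  exact h5

theorem centerless [Finite T] [IsSimpleGroup T] (hp : ¬ (Nat.card T).Prime) : center T = ⊥ := by
  rcases (inferInstance : (center T).Normal).eq_bot_or_eq_top with h | h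
  · exact h
  · exfalso
    have hm : IsMulCommutative T := ⟨⟨fun a b => by
      have : a ∈ center T := by rw [h]; exact mem_top a
      exact (mem_center_iff.1 this b).symm⟩⟩
    exact hp (Group.is_simple_iff_prime_card.1 inferInstance)

end gen

section model

open Cfsg.Agent.MonsterX Cfsg.Agent.MonsterX.Model Cfsg.Agent.MonsterX.MainPack
  Cfsg.Agent.MonsterX.MainSimple Cfsg.Agent.MonsterX.MainBasic Cfsg.Agent.MonsterU.Assembly

variable {W : Type} [AddCommGroup W] [Module ℚ W] {M : MData W} {K₀ : Type} [Group K₀]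

/-- `|C(z)| ≥ |M.C|` -/
theorem le_card_cent_z (A : All M K₀) :
    2 ^ 25 * 4157776806543360000 ≤ Nat.card ↥(centralizer ({zG A.hG} : Set M.G)) := by
  have := G_finite A.hO
  rw [← MainBasic.card_C A.hG]
  refine Nat.card_le_card_of_injective (fun c : M.C => (⟨⟨(c : W ≃ₗ[ℚ] W), C_le c.2⟩,
    (mem_cent_iff A.hG A.hR A.hL A.hO A.hT _).2 c.2⟩ : ↥(centralizer ({zG A.hG} : Set M.G)))) ?_
  intro a b hab
  exact Subtype.ext (congrArg (fun x : ↥(centralizer ({zG A.hG} : Set M.G)) => ((x : M.G) : W ≃ₗ[ℚ] W)) hab)

/-- the centralizers of the involutions of the model -/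
theorem cube_cent (A : All M K₀) (u : M.G) (hu : orderOf u = 2) :
    Nat.card M.G < Nat.card ↥(centralizer ({u} : Set M.G)) ^ 3 := by
  have hu1 : u ≠ 1 := by
    rintro rfl
    rw [orderOf_one] at hu
    exact absurd hu (by norm_num)
  have huu : u * u = 1 := by rw [← pow_two, ← hu, pow_orderOf_eq_one]
  have hcard : Nat.card M.G = 808017424794512875886459904961710757005754368000000000 := A.isM.2
  have key : 10 ^ 18 ≤ Nat.card ↥(centralizer ({u} : Set M.G)) := by
    rcases A.classes u huu hu1 with ⟨g, hg⟩ | ⟨g, hg⟩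
    · rw [← MonsterN.CardK.card_centralizer_isConj (isConj_iff.2 ⟨g, hg⟩)]
      exact le_trans (by norm_num) (le_card_cent_z A)
    · rw [← MonsterN.CardK.card_centralizer_isConj (isConj_iff.2 ⟨g, hg⟩),
        card_cent_t A.hG A.hR A.hL A.hO A.hT]
      norm_num
  rw [hcard]
  calc 808017424794512875886459904961710757005754368000000000 < (10 ^ 18) ^ 3 := by norm_num
    _ ≤ _ := Nat.pow_le_pow_left key 3

end model

open Cfsg.Agent.MonsterX

theorem inner_G (α : MulAut ↥InstData.M.G) : ∃ g, α = MulAut.conj g :=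
  KFacts.MonsterE.inner_model Instance.mGroup Instance.mRep Instance.mLat InstanceFinal.mOrbit Instance.mTrans α

theorem cube_model : CubeBound ↥InstData.M.G := by
  have A := Cfsg.Agent.MonsterN.LitFin.all
  have h1 : Finite ↥InstData.M.G := Cfsg.Agent.MonsterX.MainBasic.G_finite A.hO
  have h2 : IsSimpleGroup ↥InstData.M.G := A.isM.1
  refine of_inner inner_G (centerless ?_) fun t ht => cube_cent A t ht
  rw [A.isM.2]
  norm_num

/-- **The Monster.** -/
theorem cube_M {G : Type*} [Group G] (h : Cfsg.Spor.IsoM G) : CubeBound G := by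
  obtain ⟨e⟩ := h
  obtain ⟨f⟩ := Cfsg.Agent.MonsterP.Equiv.equiv
  exact CubeBound.congr (e.trans f).symm cube_model

end Cfsg.Agent.H848.CubeM
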